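/-
The spider groups on the diagrams Y322 and Y532, and homomorphisms out of numbered presentations.
-/
import Cfsg.Agent.Lib.CosetEnum.PresPO7

set_option autoImplicit false

namespace CfsgLib.Y555

open CfsgLib.CosetEnum Cfsg.Spor

/-- The homomorphism given by images of the numbered generators. -/
noncomputable def homTo (P : Pres) {M : Type} [Group M] (τ : ℕ → M) (hτ : ∀ x, τ x * τ x = 1)
    (h : ∀ w ∈ P.rels, (w.map τ).prod = 1) : P.Grp →* M :=
  PresentedGroup.toGroup (f := τ ∘ P.idx) (P.lift_rel hτ h)

theorem homTo_gen (P : Pres) {M : Type} [Group M] (τ : ℕ → M) (hτ : ∀ x, τ x * τ x = 1)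
    (h : ∀ w ∈ P.rels, (w.map τ).prod = 1) (hid : ∀ i < P.k, P.idx (P.gen i) = i) {x : ℕ} (hx : x < P.k) :
    homTo P τ hτ h (P.σ x) = τ x := by
  rw [Pres.σ, if_pos hx]
  exact (PresentedGroup.toGroup.of _).trans (congrArg τ (hid x hx))

theorem homTo_word (P : Pres) {M : Type} [Group M] (τ : ℕ → M) (hτ : ∀ x, τ x * τ x = 1)
    (h : ∀ w ∈ P.rels, (w.map τ).prod = 1) (hid : ∀ i < P.k, P.idx (P.gen i) = i) :
    ∀ w : List ℕ, (∀ x ∈ w, x < P.k) → homTo P τ hτ h (w.map P.σ).prod = (w.map τ).prod := by
  intro w hw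
  rw [map_list_prod, List.map_map]
  exact congrArg List.prod (List.map_congr_left fun x hx => homTo_gen P τ hτ h hid (hw x hx))

/-- The spider word of Y322. -/
def spider8 : List ℕ := (List.replicate 10 [2, 1, 0, 2, 3, 4, 2, 6, 7]).flatten

/-- The diagram Y322 with the spider relator alone. -/
abbrev presS8 : Pres where
  α := Fin 8
  dec := inferInstance
  edges := edgesPO7
  extra := [spider8].map freeWord
  k := 8
  gen := Fin.ofNat 8
  idx := fun a => a.val
  extraW := [spider8]
  idx_spec a := ⟨a.2, Fin.ofNat_val_eq_self a⟩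
  node a := by revert a; decide
  symm a b := by revert a b; decide
  extra_spec M _ τ h := by
    rw [List.map_map]
    refine List.map_congr_left fun w hw => ?_
    have hlt : ∀ x ∈ w, x < 8 := (show ∀ w ∈ [spider8], ∀ x ∈ w, x < 8 by decide) w hw
    simp only [Function.comp_apply, freeWord, map_list_prod, List.map_map]
    refine congrArg List.prod (List.map_congr_left fun x hx => ?_)
    simp [Nat.mod_eq_of_lt (hlt x hx)]

/-- The edges of Y532; the nodes are d₃, c₃, b₃, a, b₁, c₁, d₁, e₁, b₂, c₂, f₁. -/
def edges532 : List (Fin 11 × ℕ × Fin 11) :=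
  [(0, 3, 1), (1, 3, 2), (2, 3, 3), (3, 3, 4), (4, 3, 5), (5, 3, 6), (6, 3, 7), (7, 3, 10), (3, 3, 8), (8, 3, 9)]

/-- The spider word of Y532. -/
def spider11 : List ℕ := (List.replicate 10 [3, 2, 1, 3, 4, 5, 3, 8, 9]).flatten

/-- A word in the free group on eleven letters. -/
def freeWord11 (w : List ℕ) : FreeGroup (Fin 11) := (w.map fun x => FreeGroup.of (Fin.ofNat 11 x)).prod

/-- The diagram Y532 with the spider relator alone. -/
abbrev presY532 : Pres where
  α := Fin 11
  dec := inferInstance
  edges := edges532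
  extra := [spider11].map freeWord11
  k := 11
  gen := Fin.ofNat 11
  idx := fun a => a.val
  extraW := [spider11]
  idx_spec a := ⟨a.2, Fin.ofNat_val_eq_self a⟩
  node a := by revert a; decide
  symm a b := by revert a b; decide
  extra_spec M _ τ h := by
    rw [List.map_map]
    refine List.map_congr_left fun w hw => ?_
    have hlt : ∀ x ∈ w, x < 11 := (show ∀ w ∈ [spider11], ∀ x ∈ w, x < 11 by decide) w hw
    simp only [Function.comp_apply, freeWord11, map_list_prod, List.map_map]
    refine congrArg List.prod (List.map_congr_left fun x hx => ?_)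
    simp [Nat.mod_eq_of_lt (hlt x hx)]

theorem hid8 : ∀ i < presS8.k, presS8.idx (presS8.gen i) = i := by decide

theorem hid11 : ∀ i < presY532.k, presY532.idx (presY532.gen i) = i := by decide

end CfsgLib.Y555
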