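/-
The diagram Y322 with the spider relator: equality of words is decided by the parity and by the action
on 3159 points.
-/
import Cfsg.Agent.Lib.Y555.Pres
import Cfsg.Agent.Lib.CosetEnum.Simple
import Cfsg.Agent.Lib.CosetEnum.PO7.Main
import Cfsg.Agent.Lib.CosetEnum.PO7Chain.Levels
import Cfsg.Agent.Lib.CosetEnum.Fi23B.Main
import Cfsg.Agent.Lib.CosetEnum.Fi23C.Main
import Cfsg.Agent.Lib.CosetEnum.Fi23D.Main
import Cfsg.Agent.Lib.CosetEnum.Fi23E.Main
import Cfsg.Agent.Lib.CosetEnum.Fi23F.Main
import Mathlib.Algebra.Group.Units.Basic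

set_option autoImplicit false
set_option maxRecDepth 1000000

namespace CfsgLib.Y555

open CfsgLib.CosetEnum

theorem upper8 : Finite presS8.Grp ∧ Nat.card presS8.Grp ≤ 9170703360 := by
  have h0 := presS8.card_step Fi23F.sheet [0, 1, 2, 3] rfl [] presS8.der_nil (by decide +kernel) (by decide +kernel)
    (wordsSub_nil _)
  have h1 := presS8.card_step Fi23E.sheet [0, 1, 2, 3, 6] rfl [] presS8.der_nil (by decide +kernel)
    (by decide +kernel) h0
  have h2 := presS8.card_step Fi23D.sheet [0, 1, 2, 3, 4, 6] rfl [] presS8.der_nil (by decide +kernel)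
    (by decide +kernel) h1
  have h3 := presS8.card_step Fi23C.sheet [0, 1, 2, 3, 4, 5, 6] rfl [] presS8.der_nil (by decide +kernel)
    (by decide +kernel) h2
  have h4 := presS8.card_step Fi23B.sheet [0, 1, 2, 3, 4, 5, 6, 7] rfl [] presS8.der_nil (by decide +kernel)
    (by decide +kernel) h3
  have htop : wordsSub presS8.σ (([0, 1, 2, 3, 4, 5, 6, 7] : List ℕ).map fun i => [i]) = ⊤ := by
    rw [← Pres.closure_eq_wordsSub, eq_top_iff, ← presS8.gen_closure, Subgroup.closure_le]
    rintro _ ⟨x, hx, rfl⟩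
    refine Subgroup.subset_closure ⟨x, hx, ?_⟩
    have hx' : x < 8 := hx
    interval_cases x <;> rfl
  rw [htop] at h4
  have := h4.1
  refine ⟨Finite.of_equiv _ Subgroup.topEquiv.toEquiv, ?_⟩
  rw [← Nat.card_congr Subgroup.topEquiv.toEquiv]
  exact h4.2

instance finite8 : Finite presS8.Grp := upper8.1

theorem rels8_sub : (presS8.rels.all fun w => presPO7.rels.contains w) = true := by decide +kernel

theorem rels8_one (w : List ℕ) (hw : w ∈ presS8.rels) : (w.map presPO7.σ).prod = 1 :=
  presPO7.rels_one (List.contains_iff_mem.mp (List.all_eq_true.mp rels8_sub w hw))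

/-- The projection to the presented group of O₇(3). -/
noncomputable def proj : presS8.Grp →* presPO7.Grp := homTo presS8 presPO7.σ presPO7.σ_sq rels8_one

theorem proj_surjective : Function.Surjective proj := by
  rw [← MonoidHom.range_eq_top, eq_top_iff, ← presPO7.gen_closure, Subgroup.closure_le]
  rintro _ ⟨x, hx, rfl⟩
  exact ⟨presS8.σ x, homTo_gen _ _ _ _ hid8 hx⟩

instance finitePO7 : Finite presPO7.Grp := Finite.of_surjective proj proj_surjective

theorem lower7 {K : ℕ} (h : K ≤ Nat.card (PO7.cert.fixSub PO7.hlt [1, 4, 2, 5, 0,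
    8])) : 4585351680 * K ≤ Nat.card (PO7.cert.fixSub PO7.hlt []) := by
  have hid : ∀ i < presPO7.k, presPO7.idx (presPO7.gen i) = i := by decide
  have h5 := PO7.cert.level_step PO7.hlt hid [1, 4, 2, 5, 0] PO7Chain.lev5
    PO7Chain.lev5_ok (show 8 < 3159 by decide) h
  have h4 := PO7.cert.level_step PO7.hlt hid [1, 4, 2, 5] PO7Chain.lev4 PO7Chain.lev4_ok
    (show 0 < 3159 by decide) h5
  have h3 := PO7.cert.level_step PO7.hlt hid [1, 4, 2] PO7Chain.lev3 PO7Chain.lev3_ok
    (show 5 < 3159 by decide) h4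
  have h2 := PO7.cert.level_step PO7.hlt hid [1, 4] PO7Chain.lev2 PO7Chain.lev2_ok
    (show 2 < 3159 by decide) h3
  have h1 := PO7.cert.level_step PO7.hlt hid [1] PO7Chain.lev1 PO7Chain.lev1_ok
    (show 4 < 3159 by decide) h2
  have h0 := PO7.cert.level_step PO7.hlt hid [] PO7Chain.lev0 PO7Chain.lev0_ok
    (show 1 < 3159 by decide) h1
  refine le_trans (le_of_eq ?_) h0
  show _ = (3159 * (288 * (35 * (18 * (4 * (2 * K))))))
  ring

/-- The action on 3159 points. -/
noncomputable def act8 : presS8.Grp →* Equiv.Perm (Fin PO7.cert.T.n) := (PO7.cert.hom PO7.hlt).comp proj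

theorem range_act8 : 4585351680 ≤ Nat.card act8.range := by
  have hr : act8.range = (PO7.cert.hom PO7.hlt).range := by
    rw [act8, MonoidHom.range_comp, MonoidHom.range_eq_top.mpr proj_surjective, ← MonoidHom.range_eq_map]
  rw [hr]
  have hlow := PO7.cert.card_le_of_fixSub PO7.hlt (lower7 (PO7.cert.ker_le_fixSub PO7.hlt _))
  have h := (PO7.cert.hom PO7.hlt).ker.card_mul_index
  rw [Subgroup.index_ker] at h
  rw [← h, mul_comm _ (Nat.card (PO7.cert.hom PO7.hlt).range)] at hlow
  exact Nat.le_of_mul_le_mul_right hlow Nat.card_pos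

theorem card_ker_act8 : Nat.card act8.ker ≤ 2 := by
  have h := act8.ker.card_mul_index
  rw [Subgroup.index_ker] at h
  have h2 := upper8.2
  rw [← h] at h2
  by_contra hc
  have : 3 * 4585351680 ≤ Nat.card act8.ker * Nat.card act8.range := Nat.mul_le_mul (by omega) range_act8
  omega

/-- The sign of a letter. -/
noncomputable def sgnLetter (k x : ℕ) : ℤˣ := if x < k then -1 else 1

theorem sgnLetter_sq (k x : ℕ) : sgnLetter k x * sgnLetter k x = 1 := by
  unfold sgnLetter
  split <;> decide

theorem sgn_word (k : ℕ) : ∀ w : List ℕ, (∀ x ∈ w, x < k) →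
    (w.map (sgnLetter k)).prod = (-1) ^ w.length := by
  intro w
  induction w with
  | nil => intro _; rfl
  | cons x w ih =>
    intro h
    rw [List.map_cons, List.prod_cons, ih fun y hy => h y (List.mem_cons_of_mem _ hy), List.length_cons,
      pow_succ', sgnLetter, if_pos (h x List.mem_cons_self)]

theorem rels8_even : (presS8.rels.all fun w => decide (w.length % 2 = 0) && w.all fun x => decide (x < 8)) = true := by
  decide +kernel

theorem rels8_sgn (w : List ℕ) (hw : w ∈ presS8.rels) : (w.map (sgnLetter 8)).prod = 1 := by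
  have h := List.all_eq_true.mp rels8_even w hw
  rw [Bool.and_eq_true] at h
  rw [sgn_word 8 w fun x hx => of_decide_eq_true (List.all_eq_true.mp h.2 x hx)]
  exact Even.neg_one_pow (Nat.even_iff.mpr (of_decide_eq_true h.1))

/-- The parity. -/
noncomputable def sgn8 : presS8.Grp →* ℤˣ := homTo presS8 (sgnLetter 8) (sgnLetter_sq 8) rels8_sgn

/-- A word fixes all points. -/
noncomputable def okFix (w : List ℕ) : Bool :=
  allN 3159 fun d => force d fun d' => Nat.beq (runT PO7.table 8 w d') d'

theorem act8_word {w : List ℕ} (hw : ∀ x ∈ w, x < 8) (h : okFix w = true) : act8 (w.map presS8.σ).prod = 1 := by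
  have hid : ∀ i < presPO7.k, presPO7.idx (presPO7.gen i) = i := by decide
  rw [act8, MonoidHom.comp_apply, proj, homTo_word _ _ _ _ hid8 w hw]
  refine inv_eq_one.mp ?_
  rw [← map_inv, ← prod_reverse_inv presPO7.σ presPO7.σ_sq]
  refine Equiv.ext fun d => Fin.ext ?_
  rw [PO7.cert.hom_rev PO7.hlt hid w hw, Equiv.Perm.one_apply]
  have := allN_spec h d (show (d : ℕ) < 3159 from d.2)
  rw [force_eq] at this
  exact Nat.eq_of_beq_eq_true this

theorem sgn8_word {w : List ℕ} (hw : ∀ x ∈ w, x < 8) : sgn8 (w.map presS8.σ).prod = (-1) ^ w.length := by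
  rw [sgn8, homTo_word _ _ _ _ hid8 w hw, sgn_word 8 w hw]

/-- The E7 word of the diagram. -/
def base8 : List ℕ := (List.replicate 9 [0, 1, 2, 3, 4, 5, 6]).flatten

theorem base8_ok : okFix base8 = true := by decide +kernel

theorem base8_lt : ∀ x ∈ base8, x < 8 := by decide +kernel

theorem eq_one_of {g : presS8.Grp} (h1 : act8 g = 1) (h2 : sgn8 g = 1) : g = 1 := by
  classical
  by_contra hg
  set u : presS8.Grp := (base8.map presS8.σ).prod
  have hu : sgn8 u = -1 := by rw [sgn8_word base8_lt]; decide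
  have hu1 : u ≠ 1 := fun e => by rw [e, map_one] at hu; exact absurd hu (by decide)
  have hgu : g ≠ u := fun e => by rw [e, hu] at h2; exact absurd h2 (by decide)
  have hcard : ({1, g, u} : Finset presS8.Grp).card = 3 := by
    rw [Finset.card_insert_of_notMem (by simp [Ne.symm hg, Ne.symm hu1]),
      Finset.card_insert_of_notMem (by simp [hgu]), Finset.card_singleton]
  have hsub : (({1, g, u} : Finset presS8.Grp) : Set presS8.Grp) ⊆ (act8.ker : Set presS8.Grp) := by
    simp only [Finset.coe_insert, Finset.coe_singleton, Set.insert_subset_iff, Set.singleton_subset_iff]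
    exact ⟨one_mem _, h1, act8_word base8_lt base8_ok⟩
  have h2' := Nat.card_mono (Set.toFinite _) hsub
  rw [Nat.card_eq_fintype_card (α := (({1, g, u} : Finset presS8.Grp) : Set presS8.Grp))] at h2'
  simp only [Finset.coe_sort_coe, Fintype.card_coe, hcard] at h2'
  have h3 := card_ker_act8
  exact absurd (h2'.trans h3) (by decide)

theorem word_eq_one {w : List ℕ} (hw : ∀ x ∈ w, x < 8) (h : okFix w = true) (hev : w.length % 2 = 0) :
    (w.map presS8.σ).prod = 1 :=
  eq_one_of (act8_word hw h) (by rw [sgn8_word hw]; exact Even.neg_one_pow (Nat.even_iff.mpr hev))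

/-- An odd word fixing all points equals the base word. -/
theorem word_eq_base {w : List ℕ} (hw : ∀ x ∈ w, x < 8) (h : okFix w = true) (hodd : w.length % 2 = 1) :
    (w.map presS8.σ).prod = (base8.map presS8.σ).prod := by
  rw [← inv_mul_eq_one]
  refine eq_one_of ?_ ?_
  · rw [map_mul, map_inv, act8_word hw h, act8_word base8_lt base8_ok, inv_one, one_mul]
  · rw [map_mul, map_inv, sgn8_word hw, sgn8_word base8_lt, Odd.neg_one_pow (Nat.odd_iff.mpr hodd)]
    decide

theorem base8_sq : (base8.map presS8.σ).prod * (base8.map presS8.σ).prod = 1 := by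
  refine eq_one_of ?_ ?_
  · rw [map_mul, act8_word base8_lt base8_ok, one_mul]
  · rw [map_mul, sgn8_word base8_lt]; decide

theorem base8_comm (x : ℕ) : presS8.σ x * (base8.map presS8.σ).prod = (base8.map presS8.σ).prod * presS8.σ x := by
  rw [← mul_inv_eq_one]
  refine eq_one_of ?_ ?_
  · simp [map_mul, act8_word base8_lt base8_ok]
  · simp only [map_mul, map_inv]
    rw [mul_comm (sgn8 (presS8.σ x)), mul_inv_cancel]

/-- The E7 words of the diagram used below. -/
def e7words : List (List ℕ) :=
  [[0, 1, 2, 3, 4, 5, 6], [2, 3, 6, 1, 4, 7, 5], [2, 3, 1, 6, 4, 0, 5], [7, 6, 2, 3, 4, 5, 1], [5, 4, 3, 2, 6, 7, 1]]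

theorem e7words_ok : (e7words.all fun v => okFix (List.replicate 9 v).flatten) = true := by decide +kernel

theorem e7words_shape : (e7words.all fun v =>
    decide ((List.replicate 9 v).flatten.length % 2 = 1) && (List.replicate 9 v).flatten.all fun x => decide (x < 8))
      = true := by decide +kernel

/-- All the E7 words give the same involution, and it is central. -/
theorem spider_facts {M : Type} [Group M] (τ : ℕ → M) (hτ : ∀ x, τ x * τ x = 1)
    (h : ∀ w ∈ presS8.rels, (w.map τ).prod = 1) :
    (∀ v ∈ e7words, ((List.replicate 9 v).flatten.map τ).prod = (base8.map τ).prod) ∧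
      (base8.map τ).prod * (base8.map τ).prod = 1 ∧
      ∀ x < 8, Commute (τ x) (base8.map τ).prod := by
  refine ⟨fun v hv => ?_, ?_, fun x hx => ?_⟩
  · have hs := List.all_eq_true.mp e7words_shape v hv
    rw [Bool.and_eq_true] at hs
    have hlt : ∀ x ∈ (List.replicate 9 v).flatten, x < 8 := fun x hx =>
      of_decide_eq_true (List.all_eq_true.mp hs.2 x hx)
    have e := congrArg (homTo presS8 τ hτ h)
      (word_eq_base hlt (List.all_eq_true.mp e7words_ok v hv) (of_decide_eq_true hs.1))
    rwa [homTo_word _ _ _ _ hid8 _ hlt, homTo_word _ _ _ _ hid8 _ base8_lt] at e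
  · have e := congrArg (homTo presS8 τ hτ h) base8_sq
    rwa [map_mul, map_one, homTo_word _ _ _ _ hid8 _ base8_lt] at e
  · have e := congrArg (homTo presS8 τ hτ h) (base8_comm x)
    rwa [map_mul, map_mul, homTo_word _ _ _ _ hid8 _ base8_lt, homTo_gen _ _ _ _ hid8 hx] at e

end CfsgLib.Y555
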