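/-
The E7 involutions in the diagram Y532 with the spider relator alone.
-/
import Cfsg.Agent.Lib.Y555.Spider

set_option autoImplicit false
set_option maxRecDepth 1000000

namespace CfsgLib.Y555

open CfsgLib.CosetEnum

/-- The word of the involution on the long arm three. -/
def uW : List ℕ := (List.replicate 9 [0, 1, 2, 3, 4, 5, 8]).flatten

/-- The word of the involution on the long arm one. -/
def zW : List ℕ := (List.replicate 9 [1, 2, 3, 4, 5, 6, 8]).flatten

/-- The involution on the long arm three. -/
noncomputable def U : presY532.Grp := (uW.map presY532.σ).prod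

/-- The involution on the long arm one. -/
noncomputable def Z : presY532.Grp := (zW.map presY532.σ).prod

/-- The Y322 with long arm one. -/
def selX : List ℕ := [1, 2, 3, 4, 5, 6, 8, 9]

/-- The Y322 with long arm three. -/
def selY : List ℕ := [9, 8, 3, 2, 1, 0, 4, 5]

theorem sel_rels : ([selX, selY].all fun sel => presS8.rels.all fun w => presY532.rels.any fun r =>
    (List.range (r.length + 1)).any fun s => decide (r.rotate s = w.map fun x => sel.getD x 11)) = true := by
  decide +kernel

theorem sel_facts {sel : List ℕ} (hsel : sel ∈ [selX, selY]) :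
    (∀ v ∈ e7words, ((List.replicate 9 (v.map fun x => sel.getD x 11)).flatten.map presY532.σ).prod =
        ((base8.map fun x => sel.getD x 11).map presY532.σ).prod) ∧
      ((base8.map fun x => sel.getD x 11).map presY532.σ).prod *
          ((base8.map fun x => sel.getD x 11).map presY532.σ).prod = 1 ∧
      ∀ x < 8, Commute (presY532.σ (sel.getD x 11)) ((base8.map fun x => sel.getD x 11).map presY532.σ).prod := by
  have hrel : ∀ w ∈ presS8.rels, (w.map fun x => presY532.σ (sel.getD x 11)).prod = 1 := by
    intro w hw
    obtain ⟨r, hr, hs⟩ := List.any_eq_true.mp (List.all_eq_true.mp (List.all_eq_true.mp sel_rels sel hsel) w hw)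
    obtain ⟨s, -, hs⟩ := List.any_eq_true.mp hs
    have e : (w.map fun x => presY532.σ (sel.getD x 11)) = (r.map presY532.σ).rotate s := by
      rw [← List.map_rotate, of_decide_eq_true hs, List.map_map]
      rfl
    rw [e]
    exact prod_rotate_eq_one _ s (presY532.rels_one hr)
  obtain ⟨h1, h2, h3⟩ := spider_facts (fun x => presY532.σ (sel.getD x 11)) (fun x => presY532.σ_sq _) hrel
  have hb : ((base8.map fun x => sel.getD x 11).map presY532.σ).prod =
      (base8.map fun x => presY532.σ (sel.getD x 11)).prod := by rw [List.map_map]; rfl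
  refine ⟨fun v hv => ?_, by rw [hb]; exact h2, fun x hx => by rw [hb]; exact h3 x hx⟩
  rw [hb, ← h1 v hv, prod_flatten_replicate, prod_flatten_replicate, List.map_map]
  rfl

theorem eval_eq {L L' : List ℕ} (h : L = L') : (L.map presY532.σ).prod = (L'.map presY532.σ).prod := by rw [h]

theorem z_words : ∀ v ∈ ([[3, 4, 8, 2, 5, 9, 6], [3, 4, 2, 8, 5, 1, 6], [9, 8, 3, 4, 5, 6, 2]] : List (List ℕ)),
    ((List.replicate 9 v).flatten.map presY532.σ).prod = Z := by
  have h := (sel_facts (sel := selX) (by simp)).1
  have e : ((base8.map fun x => selX.getD x 11).map presY532.σ).prod = Z := eval_eq (by decide +kernel)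
  intro v hv
  simp only [List.mem_cons, List.not_mem_nil, or_false] at hv
  rcases hv with rfl | rfl | rfl
  · exact (eval_eq (by decide +kernel)).trans ((h [2, 3, 6, 1, 4, 7, 5] (by decide)).trans e)
  · exact (eval_eq (by decide +kernel)).trans ((h [2, 3, 1, 6, 4, 0, 5] (by decide)).trans e)
  · exact (eval_eq (by decide +kernel)).trans ((h [7, 6, 2, 3, 4, 5, 1] (by decide)).trans e)

theorem u_word : ((List.replicate 9 [9, 8, 3, 2, 1, 0, 4]).flatten.map presY532.σ).prod = U := by
  have h := (sel_facts (sel := selY) (by simp)).1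
  exact (eval_eq (by decide +kernel)).trans (((h [0, 1, 2, 3, 4, 5, 6] (by decide))).trans
    ((h [5, 4, 3, 2, 6, 7, 1] (by decide)).symm.trans (eval_eq (by decide +kernel))))

theorem U_sq : U * U = 1 := by
  have h := sel_facts (sel := selY) (by simp)
  have e : ((base8.map fun x => selY.getD x 11).map presY532.σ).prod = U :=
    (eval_eq (by decide +kernel)).trans u_word
  rw [← e]
  exact h.2.1

theorem Z_sq : Z * Z = 1 := by
  have h := sel_facts (sel := selX) (by simp)
  have e : ((base8.map fun x => selX.getD x 11).map presY532.σ).prod = Z := eval_eq (by decide +kernel)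
  rw [← e]
  exact h.2.1

theorem comm_pair {i j : ℕ} (hi : i < 11) (hj : j < 11) (h : presY532.m i j = 2) :
    Commute (presY532.σ i) (presY532.σ j) := by
  rcases le_total i j with hij | hij
  · exact commute_of_sq i j hi hj hij h
  · refine (commute_of_sq j i hj hi hij ?_).symm
    show @Cfsg.Spor.coxLabel _ presY532.dec presY532.edges _ _ = 2
    rw [presY532.symm]
    exact h
where
  commute_of_sq (i j : ℕ) (hi : i < 11) (hj : j < 11) (hij : i ≤ j) (h : presY532.m i j = 2) :
      Commute (presY532.σ i) (presY532.σ j) := by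
    have hw : coxWord i j (presY532.m i j) ∈ presY532.rels := by
      refine List.mem_append_left _ ?_
      simp only [List.mem_flatMap, List.mem_range, List.mem_map, List.mem_filter, decide_eq_true_eq]
      exact ⟨i, hi, j, ⟨hj, hij⟩, rfl⟩
    have e := presY532.rels_one hw
    rw [prod_coxWord, h, pow_two, mul_eq_one_iff_eq_inv, mul_inv_rev,
      inv_eq_of_mul_eq_one_right (presY532.σ_sq i), inv_eq_of_mul_eq_one_right (presY532.σ_sq j)] at e
    exact e

theorem comm_word {x : ℕ} (hx : x < 11) (w : List ℕ)
    (h : (w.all fun y => decide (y < 11) && Nat.beq (presY532.m x y) 2) = true) :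
    Commute (presY532.σ x) (w.map presY532.σ).prod := by
  refine Commute.list_prod_right _ _ fun g hg => ?_
  obtain ⟨y, hy, rfl⟩ := List.mem_map.mp hg
  have := List.all_eq_true.mp h y hy
  rw [Bool.and_eq_true] at this
  exact comm_pair hx (of_decide_eq_true this.1) (Nat.eq_of_beq_eq_true this.2)

theorem U_comm : ∀ x < 11, Commute (presY532.σ x) U := by
  intro x hx
  have hY : ∀ y < 8, Commute (presY532.σ (selY.getD y 11)) U := fun y hy => by
    have e : ((base8.map fun x => selY.getD x 11).map presY532.σ).prod = U :=
      (eval_eq (by decide +kernel)).trans u_word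
    have := (sel_facts (sel := selY) (by simp)).2.2 y hy
    rwa [e] at this
  interval_cases x
  · exact hY 5 (by omega)
  · exact hY 4 (by omega)
  · exact hY 3 (by omega)
  · exact hY 2 (by omega)
  · exact hY 6 (by omega)
  · exact hY 7 (by omega)
  · rw [← u_word]; exact comm_word (by omega) _ (by decide +kernel)
  · rw [← u_word]; exact comm_word (by omega) _ (by decide +kernel)
  · exact hY 1 (by omega)
  · exact hY 0 (by omega)
  · rw [← u_word]; exact comm_word (by omega) _ (by decide +kernel)

theorem Z_comm : ∀ x < 11, x ≠ 7 → x ≠ 10 → Commute (presY532.σ x) Z := by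
  intro x hx h7 h10
  have hX : ∀ y < 8, Commute (presY532.σ (selX.getD y 11)) Z := fun y hy => by
    have e : ((base8.map fun x => selX.getD x 11).map presY532.σ).prod = Z := eval_eq (by decide +kernel)
    have := (sel_facts (sel := selX) (by simp)).2.2 y hy
    rwa [e] at this
  interval_cases x
  · rw [← z_words [9, 8, 3, 4, 5, 6, 2] (by simp)]; exact comm_word (by omega) _ (by decide +kernel)
  · exact hX 0 (by omega)
  · exact hX 1 (by omega)
  · exact hX 2 (by omega)
  · exact hX 3 (by omega)
  · exact hX 4 (by omega)
  · exact hX 5 (by omega)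
  · exact absurd rfl h7
  · exact hX 6 (by omega)
  · exact hX 7 (by omega)
  · exact absurd rfl h10

theorem U_center : U ∈ Subgroup.center presY532.Grp := by
  rw [Subgroup.mem_center_iff]
  intro g
  have hle : Subgroup.closure (presY532.σ '' Set.Iio presY532.k) ≤ Subgroup.centralizer {U} := by
    rw [Subgroup.closure_le]
    rintro _ ⟨x, hx, rfl⟩
    exact Subgroup.mem_centralizer_singleton_iff.mpr (U_comm x hx).eq
  exact Subgroup.mem_centralizer_singleton_iff.mp (hle (presY532.gen_closure ▸ Subgroup.mem_top g))

/-- The parity. -/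
theorem exists_parity : ∃ χ : presY532.Grp →* ℤˣ, (∀ x < 11, χ (presY532.σ x) = -1) ∧ χ U = -1 ∧ χ Z = -1 := by
  have hev : (presY532.rels.all fun w => decide (w.length % 2 = 0) && w.all fun x => decide (x < 11)) = true := by
    decide +kernel
  have hr : ∀ w ∈ presY532.rels, (w.map (sgnLetter 11)).prod = 1 := fun w hw => by
    have h := List.all_eq_true.mp hev w hw
    rw [Bool.and_eq_true] at h
    rw [sgn_word 11 w fun x hx => of_decide_eq_true (List.all_eq_true.mp h.2 x hx)]
    exact Even.neg_one_pow (Nat.even_iff.mpr (of_decide_eq_true h.1))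
  have hu : ∀ x ∈ uW, x < 11 := by decide +kernel
  have hz : ∀ x ∈ zW, x < 11 := by decide +kernel
  refine ⟨homTo presY532 (sgnLetter 11) (sgnLetter_sq 11) hr, fun x hx => ?_, ?_, ?_⟩
  · rw [homTo_gen _ _ _ _ hid11 hx, sgnLetter, if_pos hx]
  · rw [U, homTo_word _ _ _ _ hid11 _ hu, sgn_word 11 uW hu]; decide
  · rw [Z, homTo_word _ _ _ _ hid11 _ hz, sgn_word 11 zW hz]; decide

end CfsgLib.Y555
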