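/-
In the diagram Y532 with the spider relator alone the end node of the long arm is the E7 involution.
-/
import Cfsg.Agent.Lib.Y555.Central
import Cfsg.Agent.Lib.CosetEnum.Y532U.Main
import Cfsg.Agent.S1696
import Cfsg.Agent.S1697
import Mathlib.Data.Nat.Prime.Basic

set_option autoImplicit false
set_option maxRecDepth 1000000

namespace CfsgLib.Y555

open CfsgLib.CosetEnum

/-- The generators of Y432, as words. -/
def w432 : List (List ℕ) := [[0], [1], [2], [3], [4], [5], [6], [7], [8], [9]]

/-- The generators of Y332, as words. -/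
def w332 : List (List ℕ) := [[0], [1], [2], [3], [4], [5], [6], [8], [9]]

/-- The subgroup of Y332. -/
noncomputable def Q9 : Subgroup presY532.Grp := wordsSub presY532.σ w332

theorem mem_Q9 {w : List ℕ} (h : (w.all fun x => w332.contains [x]) = true) :
    (w.map presY532.σ).prod ∈ Q9 := by
  refine Subgroup.list_prod_mem _ fun g hg => ?_
  obtain ⟨x, hx, rfl⟩ := List.mem_map.mp hg
  exact Subgroup.subset_closure ⟨[x], List.contains_iff_mem.mp (List.all_eq_true.mp h x hx), by simp⟩

theorem U_mem : U ∈ Q9 := mem_Q9 (by decide +kernel)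

theorem Z_mem : Z ∈ Q9 := mem_Q9 (by decide +kernel)

theorem hom23_fix {g : presFi23.Grp} (h : ∀ x ∈ ([0, 1, 2, 3, 4, 5, 6, 8, 9] : List ℕ), Commute g (presFi23.σ x)) :
    g ∈ Fi31671.cert.sub := by
  have hlt := Fi31671.hlt
  have hid : ∀ i < presFi23.k, presFi23.idx (presFi23.gen i) = i := by decide
  have hhw : ∀ w ∈ Fi31671.cert.hw, ∀ x ∈ w, x < presFi23.k := Fi31671.hhw
  let π := Fi31671.cert.hom hlt
  let o : Fin Fi31671.cert.T.n := ⟨0, Fi31671.cert.hn⟩
  have hx0 : ∀ x ∈ ([0, 1, 2, 3, 4, 5, 6, 8, 9] : List ℕ), π (presFi23.σ x) o = o := by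
    intro x hx
    refine Fin.ext ?_
    have hx10 : x < 10 := (show ∀ x ∈ ([0, 1, 2, 3, 4, 5, 6, 8, 9] : List ℕ), x < 10 by decide) x hx
    show (Fi31671.cert.hom hlt (presFi23.σ x) o : ℕ) = 0
    rw [Fi31671.cert.hom_σ hlt hid hx10, Fi31671.cert.perm_val hx10]
    exact Nat.eq_of_beq_eq_true ((show ∀ x ∈ ([0, 1, 2, 3, 4, 5, 6, 8, 9] : List ℕ),
      Nat.beq (Fi31671.table.act 10 0 x) 0 = true by decide +kernel) x hx)
  have hfix : ∀ x ∈ ([0, 1, 2, 3, 4, 5, 6, 8, 9] : List ℕ), π (presFi23.σ x) (π g o) = π g o := by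
    intro x hx
    rw [← Equiv.Perm.mul_apply, ← map_mul, ← (h x hx).eq, map_mul, Equiv.Perm.mul_apply, hx0 x hx]
  have hg0 : π g o = o := by
    set p := π g o with hp
    have hact : ∀ x ∈ ([0, 1, 2, 3, 4, 5, 6, 8, 9] : List ℕ), Fi31671.table.act 10 (p : ℕ) x = (p : ℕ) := by
      intro x hx
      have hx10 : x < 10 := (show ∀ x ∈ ([0, 1, 2, 3, 4, 5, 6, 8, 9] : List ℕ), x < 10 by decide) x hx
      have e := congrArg Fin.val (hfix x hx)
      rw [show π (presFi23.σ x) = Fi31671.cert.perm x from Fi31671.cert.hom_σ hlt hid hx10,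
        Fi31671.cert.perm_val hx10] at e
      exact e
    have hword : ∀ w ∈ Fi31671.hwR, runT Fi31671.table 10 w (p : ℕ) = (p : ℕ) := by
      have hs : ∀ w ∈ Fi31671.hwR, ∃ x ∈ ([0, 1, 2, 3, 4, 5, 6, 8, 9] : List ℕ), w = [x] := by decide +kernel
      intro w hw
      obtain ⟨x, hx, rfl⟩ := hs w hw
      show force (Fi31671.table.act 10 (p : ℕ) x) (fun d => d) = (p : ℕ)
      rw [force_eq]
      exact hact x hx
    have hroot : (p : ℕ) = Fi31671.roots.getD (orbLab Fi31671.orb (p : ℕ)) 0 := by
      by_contra hne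
      obtain ⟨w, hw, q, hq, hlt', he⟩ := (okOrb_lab (Fi31671.orbs p p.2)).2 hne
      have hq' : q = (p : ℕ) := by
        obtain ⟨x, hx, rfl⟩ := (show ∀ w ∈ Fi31671.hwR, ∃ x ∈ ([0, 1, 2, 3, 4, 5, 6, 8, 9] : List ℕ), w = [x] by
          decide +kernel) w hw
        have hx10 : x < 10 := (show ∀ x ∈ ([0, 1, 2, 3, 4, 5, 6, 8, 9] : List ℕ), x < 10 by decide) x hx
        have he' : runT Fi31671.table 10 [x] q = (p : ℕ) := he
        change force (Fi31671.table.act 10 q x) (fun d => d) = (p : ℕ) at he'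
        rw [force_eq] at he'
        have e := ((Fi31671.cert.points_ok q hq).1 x hx10).2
        change Fi31671.table.act 10 (Fi31671.table.act 10 q x) x = q at e
        rw [he', hact x hx] at e
        exact e.symm
      rw [hq'] at hlt'
      exact lt_irrefl _ hlt'
    have hmoved : ∀ r ∈ Fi31671.roots, r = 0 ∨
        ∃ x ∈ ([0, 1, 2, 3, 4, 5, 6, 8, 9] : List ℕ), Nat.beq (Fi31671.table.act 10 r x) r = false := by
      decide +kernel
    refine Fin.ext ?_
    show (p : ℕ) = 0
    by_cases hl : orbLab Fi31671.orb (p : ℕ) < Fi31671.roots.length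
    · rw [List.getD_eq_getElem _ _ hl] at hroot
      rcases hmoved _ (List.getElem_mem hl) with h0 | ⟨x, hx, hb⟩
      · rw [hroot, h0]
      · rw [← hroot, hact x hx] at hb
        exact absurd hb (by rw [show Nat.beq (p : ℕ) p = true from Nat.beq_refl _]; decide)
    · rw [List.getD_eq_default _ _ (not_lt.mp hl)] at hroot
      exact hroot
  obtain ⟨e, he⟩ := Fi31671.cert.exists_equiv hlt hid hhw
  have hidx : Fi31671.cert.sub.index = Fi31671.cert.T.n := index_eq_of_equiv e
  let S0 : Subgroup presFi23.Grp := (MulAction.stabilizer (Equiv.Perm (Fin Fi31671.cert.T.n)) o).comap π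
  have hle : Fi31671.cert.sub ≤ S0 := by
    rw [Cert.sub, Subgroup.closure_le]
    rintro _ ⟨w, hw, rfl⟩
    have hs : ∀ w ∈ Fi31671.hw, ∃ x ∈ ([0, 1, 2, 3, 4, 5, 6, 8, 9] : List ℕ), w = [x] := by decide +kernel
    obtain ⟨x, hx, rfl⟩ := hs w hw
    show π ([x].map presFi23.σ).prod o = o
    simpa using hx0 x hx
  have hidx0 : S0.index = Fi31671.cert.T.n := by
    let act : MulAction presFi23.Grp (Fin Fi31671.cert.T.n) := MulAction.compHom _ π
    have : MulAction.IsPretransitive presFi23.Grp (Fin Fi31671.cert.T.n) := by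
      refine ⟨fun a b => ?_⟩
      obtain ⟨g₁, hg₁⟩ := Fi31671.cert.exists_hom_zero hlt hid a
      obtain ⟨g₂, hg₂⟩ := Fi31671.cert.exists_hom_zero hlt hid b
      refine ⟨g₂ * g₁⁻¹, ?_⟩
      show π (g₂ * g₁⁻¹) a = b
      rw [← hg₁, ← Equiv.Perm.mul_apply, ← map_mul, inv_mul_cancel_right]
      exact hg₂
    have e1 := MulAction.index_stabilizer_of_transitive presFi23.Grp o
    rw [Nat.card_eq_fintype_card, Fintype.card_fin] at e1
    exact e1
  have hfin : Fi31671.cert.sub.index ≠ 0 := by rw [hidx]; exact Fi31671.cert.hn.ne'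
  have heq : Fi31671.cert.sub = S0 := by
    by_contra hne
    have : Fi31671.cert.sub.FiniteIndex := ⟨hfin⟩
    exact absurd (hidx0.trans hidx.symm) (Subgroup.index_strictAnti (lt_of_le_of_ne hle hne)).ne
  rw [heq]
  exact hg0

/-- The quotient by the involution of the long arm three. -/
noncomputable abbrev NU : Subgroup presY532.Grp := Subgroup.zpowers U

instance normal_NU : NU.Normal := ⟨fun n hn g => by
  have hc : n ∈ Subgroup.center presY532.Grp := (Subgroup.zpowers_le.mpr U_center) hn
  rw [Subgroup.mem_center_iff.mp hc g, mul_inv_cancel_right]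
  exact hn⟩

theorem f1_mem_Q9 : presY532.σ 10 ∈ Q9 := by
  let q : presY532.Grp →* presY532.Grp ⧸ NU := QuotientGroup.mk' NU
  let τ : ℕ → presY532.Grp ⧸ NU := fun x => q (presY532.σ x)
  have hτ : ∀ x, τ x * τ x = 1 := fun x => by rw [← map_mul, presY532.σ_sq, map_one]
  have hprod : ∀ w : List ℕ, (w.map τ).prod = q (w.map presY532.σ).prod := fun w => by
    rw [map_list_prod, List.map_map]; rfl
  have hU : q U = 1 := (QuotientGroup.eq_one_iff U).mpr (Subgroup.mem_zpowers U)
  have hrel : ∀ w ∈ presY532.rels ++ [uW], (w.map τ).prod = 1 := by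
    intro w hw
    rw [hprod]
    rcases List.mem_append.mp hw with hw | hw
    · rw [presY532.rels_one hw, map_one]
    · rw [List.mem_singleton.mp hw]; exact hU
  have hS : ∀ w ∈ Y532U.sheet.rels, (w.map τ).prod = 1 := fun w hw =>
    hrel w (List.contains_iff_mem.mp (List.all_eq_true.mp
      (show (Y532U.sheet.rels.all fun w => (presY532.rels ++ [uW]).contains w) = true by decide +kernel) w hw))
  have hk : τ Y532U.sheet.D.k = 1 := by
    show q (presY532.σ 11) = 1
    rw [Pres.σ, if_neg (lt_irrefl _), map_one]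
  have h10 : τ 10 ∈ wordsSub τ w432 := by
    have := Y532U.sheet.mem_of_run τ hτ hk hS [10] (by decide +kernel) (by decide +kernel)
    rw [show Y532U.sheet.hw = w432 by decide +kernel] at this
    simpa using this
  let ν : ℕ → presY532.Grp ⧸ NU := fun x => if x < 10 then τ x else 1
  have hν : ∀ x, ν x * ν x = 1 := fun x => by
    show (if x < 10 then τ x else 1) * (if x < 10 then τ x else 1) = 1
    split
    · exact hτ x
    · exact one_mul 1
  have hνrel : ∀ w ∈ presFi23.rels, (w.map ν).prod = 1 := by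
    intro w hw
    have h := List.all_eq_true.mp (show (presFi23.rels.all fun w =>
      (presY532.rels ++ [uW]).contains w && w.all fun x => decide (x < 10)) = true by decide +kernel) w hw
    rw [Bool.and_eq_true] at h
    rw [List.map_congr_left (g := τ) fun x hx => if_pos (of_decide_eq_true (List.all_eq_true.mp h.2 x hx))]
    exact hrel w (List.contains_iff_mem.mp h.1)
  have hid : ∀ i < presFi23.k, presFi23.idx (presFi23.gen i) = i := by decide
  let φ := homTo presFi23 ν hν hνrel
  have hφ : ∀ x < 10, φ (presFi23.σ x) = τ x := fun x hx =>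
    (homTo_gen presFi23 ν hν hνrel hid hx).trans (if_pos hx)
  have hrange : wordsSub τ w432 ≤ φ.range := by
    rw [wordsSub, Subgroup.closure_le]
    rintro _ ⟨w, hw, rfl⟩
    obtain ⟨x, hx, rfl⟩ : ∃ x < 10, w = [x] := by
      simp only [w432, List.mem_cons, List.not_mem_nil, or_false] at hw
      rcases hw with rfl | rfl | rfl | rfl | rfl | rfl | rfl | rfl | rfl | rfl <;> exact ⟨_, by omega, rfl⟩
    exact ⟨presFi23.σ x, by simpa using hφ x hx⟩
  obtain ⟨g, hg⟩ := hrange h10
  have hcom : ∀ x ∈ ([0, 1, 2, 3, 4, 5, 6, 8, 9] : List ℕ), φ (g * presFi23.σ x) = φ (presFi23.σ x * g) := by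
    intro x hx
    obtain ⟨hx10, hm⟩ := (show ∀ x ∈ ([0, 1, 2, 3, 4, 5, 6, 8, 9] : List ℕ), x < 10 ∧
      presY532.m 10 x = 2 by decide +kernel) x hx
    rw [map_mul, map_mul, hg, hφ x hx10, ← map_mul, ← map_mul,
      (comm_pair (show 10 < 11 by omega) (show x < 11 by omega) hm).eq]
  have hsimp : IsSimpleGroup presFi23.Grp := Cfsg.Agent.S1697.result.1
  rcases (inferInstance : φ.ker.Normal).eq_bot_or_eq_top with hker | hker
  · have hinj : Function.Injective φ := (MonoidHom.ker_eq_bot_iff φ).mp hker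
    have hgs := hom23_fix fun x hx => hinj (hcom x hx)
    have hle : Fi31671.cert.sub ≤ (Q9.map q).comap φ := by
      rw [Cert.sub, Subgroup.closure_le]
      rintro _ ⟨w, hw, rfl⟩
      obtain ⟨x, hx, rfl, hx'⟩ := (show ∀ w ∈ Fi31671.hw, ∃ x ∈ ([0, 1, 2, 3, 4, 5, 6, 8, 9] : List ℕ),
        w = [x] ∧ [x] ∈ w332 by decide +kernel) w hw
      refine ⟨presY532.σ x, Subgroup.subset_closure ⟨[x], hx', by simp⟩, ?_⟩
      have hx10 : x < 10 := (show ∀ x ∈ ([0, 1, 2, 3, 4, 5, 6, 8, 9] : List ℕ), x < 10 by decide) x hx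
      simpa using (hφ x hx10).symm
    obtain ⟨y, hy, hye⟩ := hle hgs
    rw [hg] at hye
    have hd : y⁻¹ * presY532.σ 10 ∈ NU := QuotientGroup.eq.mp hye
    have := mul_mem hy (Subgroup.zpowers_le.mpr U_mem hd)
    rwa [mul_inv_cancel_left] at this
  · have : φ g = 1 := by rw [← MonoidHom.mem_ker, hker]; exact Subgroup.mem_top g
    rw [hg] at this
    exact Subgroup.zpowers_le.mpr U_mem ((QuotientGroup.eq_one_iff _).mp this)

theorem fi22_center {g : presFi22.Grp} (h : g ∈ Subgroup.center presFi22.Grp) : g = 1 := by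
  have hsimp : IsSimpleGroup presFi22.Grp := Cfsg.Agent.S1696.result.1
  rcases (inferInstance : (Subgroup.center presFi22.Grp).Normal).eq_bot_or_eq_top with hc | hc
  · rw [hc] at h
    exact Subgroup.mem_bot.mp h
  · exfalso
    have hid : ∀ i < presFi22.k, presFi22.idx (presFi22.gen i) = i := by decide
    have hcm : presFi22.σ 0 * presFi22.σ 1 = presFi22.σ 1 * presFi22.σ 0 :=
      (Subgroup.mem_center_iff.mp (show presFi22.σ 0 ∈ Subgroup.center presFi22.Grp from hc ▸ Subgroup.mem_top _)
        (presFi22.σ 1)).symm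
    have e := congrArg (Fi3510.cert.hom Fi3510.hlt) hcm
    rw [map_mul, map_mul, Fi3510.cert.hom_σ Fi3510.hlt hid (show 0 < presFi22.k by decide),
      Fi3510.cert.hom_σ Fi3510.hlt hid (show 1 < presFi22.k by decide)] at e
    have hne : ∃ d < 3510, Nat.beq (Fi3510.table.act 9 (Fi3510.table.act 9 d 1) 0)
        (Fi3510.table.act 9 (Fi3510.table.act 9 d 0) 1) = false := ⟨5, by decide, by decide +kernel⟩
    obtain ⟨d, hd, hd'⟩ := hne
    have e' := congrArg Fin.val (DFunLike.congr_fun e ⟨d, hd⟩)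
    rw [Equiv.Perm.mul_apply, Equiv.Perm.mul_apply, Fi3510.cert.perm_val (show 0 < 9 by decide),
      Fi3510.cert.perm_val (show 1 < 9 by decide), Fi3510.cert.perm_val (show 1 < 9 by decide),
      Fi3510.cert.perm_val (show 0 < 9 by decide)] at e'
    change Fi3510.table.act 9 (Fi3510.table.act 9 d 1) 0 = Fi3510.table.act 9 (Fi3510.table.act 9 d 0) 1 at e'
    rw [e', show ∀ a : ℕ, Nat.beq a a = true from fun a => Nat.beq_refl a] at hd'
    exact absurd hd' (by decide)

/-- The numbers in Y532 of the nodes of Y332. -/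
def iota22 : List ℕ := [0, 1, 2, 3, 4, 5, 6, 8, 9]

theorem f1_mem_UZ : presY532.σ 10 ∈ Subgroup.closure ({U, Z} : Set presY532.Grp) := by
  let u : Q9 := ⟨U, U_mem⟩
  let z : Q9 := ⟨Z, Z_mem⟩
  have hcomm10 : ∀ x ∈ iota22, Commute (presY532.σ 10) (presY532.σ x) := fun x hx => by
    obtain ⟨hx11, hm⟩ := (show ∀ x ∈ iota22, x < 11 ∧ presY532.m 10 x = 2 by decide +kernel) x hx
    exact comm_pair (by omega) hx11 hm
  have hgen : ∀ y ∈ Q9, ∀ v : presY532.Grp, (∀ x ∈ iota22, Commute v (presY532.σ x)) → Commute v y := by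
    intro y hy v hv
    have hle : Q9 ≤ Subgroup.centralizer {v} := by
      rw [Q9, wordsSub, Subgroup.closure_le]
      rintro _ ⟨w, hw, rfl⟩
      obtain ⟨x, hx, rfl⟩ := (show ∀ w ∈ w332, ∃ x ∈ iota22, w = [x] by decide +kernel) w hw
      exact Subgroup.mem_centralizer_singleton_iff.mpr (by simpa using (hv x hx).eq.symm)
    exact (Subgroup.mem_centralizer_singleton_iff.mp (hle hy)).symm
  let N : Subgroup Q9 := Subgroup.closure {u, z}
  have hNc : N ≤ Subgroup.center Q9 := by
    rw [Subgroup.closure_le]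
    have key : ∀ v : presY532.Grp, ∀ hv : v ∈ Q9, (∀ x ∈ iota22, Commute v (presY532.σ x)) →
        (⟨v, hv⟩ : Q9) ∈ Subgroup.center Q9 := fun v hv h =>
      Subgroup.mem_center_iff.mpr fun y => Subtype.ext (hgen y y.2 v h).eq.symm
    rintro _ (rfl | rfl)
    · exact key U U_mem fun x hx => (U_comm x
        ((show ∀ x ∈ iota22, x < 11 by decide) x hx)).symm
    · exact key Z Z_mem fun x hx => by
        obtain ⟨h1, h2, h3⟩ := (show ∀ x ∈ iota22, x < 11 ∧ x ≠ 7 ∧ x ≠ 10 by decide) x hx
        exact (Z_comm x h1 h2 h3).symm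
  have : N.Normal := ⟨fun n hn g => by
    rw [Subgroup.mem_center_iff.mp (hNc hn) g, mul_inv_cancel_right]; exact hn⟩
  let q : Q9 →* Q9 ⧸ N := QuotientGroup.mk' N
  let gσ : ℕ → Q9 := fun x => if hx : x < 9 then
    ⟨presY532.σ (iota22.getD x 11), Subgroup.subset_closure ⟨[iota22.getD x 11],
      (show ∀ x < 9, [iota22.getD x 11] ∈ w332 by decide +kernel) x hx, by simp⟩⟩ else 1
  let ν : ℕ → Q9 ⧸ N := fun x => q (gσ x)
  have hg : ∀ x, ((gσ x : Q9) : presY532.Grp) = presY532.σ (iota22.getD x 11) := fun x => by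
    by_cases hx : x < 9
    · simp only [gσ, dif_pos hx]
    · simp only [gσ, dif_neg hx]
      rw [List.getD_eq_default _ _ (show iota22.length ≤ x from not_lt.mp hx), Pres.σ, if_neg (lt_irrefl _)]
      rfl
  have hν : ∀ x, ν x * ν x = 1 := fun x => by
    rw [← map_mul, show gσ x * gσ x = 1 from Subtype.ext (by rw [Subgroup.coe_mul, hg]; exact presY532.σ_sq _),
      map_one]
  have hlist : ∀ w : List ℕ, (((w.map gσ).prod : Q9) : presY532.Grp) =
      ((w.map fun x => iota22.getD x 11).map presY532.σ).prod := by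
    intro w
    rw [← Subgroup.coe_subtype, map_list_prod, List.map_map, List.map_map]
    exact congrArg List.prod (List.map_congr_left fun x _ => hg x)
  have hνrel : ∀ w ∈ presFi22.rels, (w.map ν).prod = 1 := by
    intro w hw
    have e : (w.map ν).prod = q (w.map gσ).prod := by rw [map_list_prod, List.map_map]; rfl
    rw [e]
    have h := List.all_eq_true.mp (show (presFi22.rels.all fun w =>
      (presY532.rels ++ [uW, zW]).contains (w.map fun x => iota22.getD x 11)) = true by decide +kernel) w hw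
    rcases List.mem_append.mp (List.contains_iff_mem.mp h) with h | h
    · rw [show (w.map gσ).prod = 1 from Subtype.ext ((hlist w).trans (presY532.rels_one h)), map_one]
    · refine (QuotientGroup.eq_one_iff _).mpr (Subgroup.subset_closure ?_)
      simp only [List.mem_cons, List.not_mem_nil, or_false] at h
      rcases h with h | h
      · exact Or.inl (Subtype.ext ((hlist w).trans (by rw [h]; rfl)))
      · exact Or.inr (Subtype.ext ((hlist w).trans (by rw [h]; rfl)))
  have hid : ∀ i < presFi22.k, presFi22.idx (presFi22.gen i) = i := by decide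
  let φ := homTo presFi22 ν hν hνrel
  have hφ : ∀ x < 9, φ (presFi22.σ x) = q (gσ x) := fun x hx => homTo_gen presFi22 ν hν hνrel hid hx
  have hsurj : ∀ y : Q9, q y ∈ φ.range := by
    have key : ∀ y, y ∈ Q9 → ∀ hy : y ∈ Q9, q ⟨y, hy⟩ ∈ φ.range := by
      intro y hy
      induction hy using Subgroup.closure_induction with
      | mem a ha =>
        obtain ⟨w, hw, rfl⟩ := ha
        obtain ⟨x, hx, rfl⟩ := (show ∀ w ∈ w332, ∃ x < 9, w = [iota22.getD x 11] by decide +kernel) w hw
        intro h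
        refine ⟨presFi22.σ x, (hφ x hx).trans (congrArg q (Subtype.ext ?_))⟩
        rw [hg]; simp
      | one => intro h; exact ⟨1, by rw [map_one]; exact (map_one q).symm⟩
      | mul a b ha hb iha ihb =>
        intro h
        rw [show (⟨a * b, h⟩ : Q9) = ⟨a, ha⟩ * ⟨b, hb⟩ from rfl, map_mul]
        exact mul_mem (iha ha) (ihb hb)
      | inv a ha iha =>
        intro h
        rw [show (⟨a⁻¹, h⟩ : Q9) = (⟨a, ha⟩ : Q9)⁻¹ from rfl, map_inv]
        exact inv_mem (iha ha)
    exact fun y => key y y.2 y.2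
  let c : Q9 := ⟨presY532.σ 10, f1_mem_Q9⟩
  obtain ⟨g, hgc⟩ := hsurj c
  have hsimp : IsSimpleGroup presFi22.Grp := Cfsg.Agent.S1696.result.1
  have hc1 : q c = 1 := by
    rcases (inferInstance : φ.ker.Normal).eq_bot_or_eq_top with hker | hker
    · have hinj : Function.Injective φ := (MonoidHom.ker_eq_bot_iff φ).mp hker
      rw [← hgc, fi22_center (g := g) ?_, map_one]
      rw [Subgroup.mem_center_iff]
      intro y
      apply hinj
      obtain ⟨d, hd⟩ := QuotientGroup.mk'_surjective N (φ y)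
      rw [map_mul, map_mul, hgc, ← hd]
      show q d * q c = q c * q d
      rw [← map_mul, ← map_mul]
      exact congrArg q (Subtype.ext (hgen d d.2 (presY532.σ 10) hcomm10).eq.symm)
    · rw [← hgc, ← MonoidHom.mem_ker, hker]
      exact Subgroup.mem_top g
  have hmem : c ∈ N := (QuotientGroup.eq_one_iff c).mp hc1
  have hle : N ≤ (Subgroup.closure ({U, Z} : Set presY532.Grp)).comap Q9.subtype := by
    rw [Subgroup.closure_le]
    rintro _ (rfl | rfl)
    · exact Subgroup.subset_closure (Or.inl rfl)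
    · exact Subgroup.subset_closure (Or.inr rfl)
  exact hle hmem

theorem eq_of_commute_braid {i j : ℕ} (hi : i < 11) (hj : j < 11) (hm : presY532.m i j = 3) (hij : i ≤ j)
    (hc : Commute (presY532.σ i) (presY532.σ j)) : presY532.σ i = presY532.σ j := by
  have hw : coxWord i j (presY532.m i j) ∈ presY532.rels := by
    refine List.mem_append_left _ ?_
    simp only [List.mem_flatMap, List.mem_range, List.mem_map, List.mem_filter, decide_eq_true_eq]
    exact ⟨i, hi, j, ⟨hj, hij⟩, rfl⟩
  have e := presY532.rels_one hw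
  rw [prod_coxWord, hm, pow_succ, hc.mul_pow, pow_two, pow_two, presY532.σ_sq, presY532.σ_sq, one_mul, one_mul,
    mul_eq_one_iff_eq_inv, inv_eq_of_mul_eq_one_right (presY532.σ_sq j)] at e
  exact e

theorem f1_eq_Z : presY532.σ 10 = Z := by
  obtain ⟨χ, hχ, hχU, hχZ⟩ := exists_parity
  have hcases : presY532.σ 10 = 1 ∨ presY532.σ 10 = U ∨ presY532.σ 10 = Z ∨ presY532.σ 10 = U * Z := by
    have hc : Z * U = U * Z := Subgroup.mem_center_iff.mp U_center Z
    have hz : ∀ a : presY532.Grp, Z * (Z * a) = a := fun a => by rw [← mul_assoc, Z_sq, one_mul]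
    have hu : ∀ a : presY532.Grp, U * (U * a) = a := fun a => by rw [← mul_assoc, U_sq, one_mul]
    have hcU : ∀ a : presY532.Grp, Z * (U * a) = U * (Z * a) := fun a => by rw [← mul_assoc, hc, mul_assoc]
    have hUi : U⁻¹ = U := inv_eq_of_mul_eq_one_right U_sq
    have hZi : Z⁻¹ = Z := inv_eq_of_mul_eq_one_right Z_sq
    refine Subgroup.closure_induction
      (p := fun g _ => g = 1 ∨ g = U ∨ g = Z ∨ g = U * Z) ?_ (Or.inl rfl) ?_ ?_ f1_mem_UZ
    · rintro g (rfl | rfl)
      · exact Or.inr (Or.inl rfl)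
      · exact Or.inr (Or.inr (Or.inl rfl))
    · intro a b _ _ ha hb
      rcases ha with rfl | rfl | rfl | rfl <;> rcases hb with rfl | rfl | rfl | rfl <;>
        simp [U_sq, Z_sq, hu, hc, hcU, mul_assoc]
    · intro a _ ha
      rcases ha with rfl | rfl | rfl | rfl <;> simp [hUi, hZi, hc]
  rcases hcases with h | h | h | h
  · exact absurd (congrArg χ h) (by rw [hχ 10 (by omega), map_one]; decide)
  · have e7 : presY532.σ 7 = presY532.σ 10 := eq_of_commute_braid (by omega) (by omega) (by decide +kernel)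
      (by omega) (h.symm ▸ (U_comm 7 (by omega)))
    have c : ∀ {i j k : ℕ}, k < 11 → i < 11 → presY532.m k i = 2 → presY532.σ i = presY532.σ j →
        Commute (presY532.σ k) (presY532.σ j) := fun hk hi hm e => e ▸ comm_pair hk hi hm
    have e6 : presY532.σ 6 = presY532.σ 7 := eq_of_commute_braid (by omega) (by omega) (by decide +kernel)
      (by omega) (c (i := 10) (by omega) (by omega) (by decide +kernel) e7.symm)
    have e5 : presY532.σ 5 = presY532.σ 6 := eq_of_commute_braid (by omega) (by omega) (by decide +kernel)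
      (by omega) (c (i := 7) (by omega) (by omega) (by decide +kernel) e6.symm)
    have e4 : presY532.σ 4 = presY532.σ 5 := eq_of_commute_braid (by omega) (by omega) (by decide +kernel)
      (by omega) (c (i := 6) (by omega) (by omega) (by decide +kernel) e5.symm)
    have e3 : presY532.σ 3 = presY532.σ 4 := eq_of_commute_braid (by omega) (by omega) (by decide +kernel)
      (by omega) (c (i := 5) (by omega) (by omega) (by decide +kernel) e4.symm)
    have e2 : presY532.σ 2 = presY532.σ 3 := eq_of_commute_braid (by omega) (by omega) (by decide +kernel)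
      (by omega) (c (i := 4) (by omega) (by omega) (by decide +kernel) e3.symm)
    have e8 : presY532.σ 3 = presY532.σ 8 := eq_of_commute_braid (by omega) (by omega) (by decide +kernel)
      (by omega) (c (i := 4) (by omega) (by omega) (by decide +kernel) e3.symm).symm
    have e9 : presY532.σ 8 = presY532.σ 9 := eq_of_commute_braid (by omega) (by omega) (by decide +kernel)
      (by omega) (c (i := 3) (by omega) (by omega) (by decide +kernel) e8).symm
    have e1 : presY532.σ 1 = presY532.σ 2 := eq_of_commute_braid (by omega) (by omega) (by decide +kernel)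
      (by omega) (c (i := 3) (by omega) (by omega) (by decide +kernel) e2.symm)
    have hall : ∀ x ∈ zW, presY532.σ x = U := by
      have hzW : ∀ x ∈ zW, x ∈ ([1, 2, 3, 4, 5, 6, 8] : List ℕ) := by decide +kernel
      intro x hx
      have := hzW x hx
      simp only [List.mem_cons, List.not_mem_nil, or_false] at this
      rcases this with rfl | rfl | rfl | rfl | rfl | rfl | rfl
      · rw [e1, e2, e3, e4, e5, e6, e7, h]
      · rw [e2, e3, e4, e5, e6, e7, h]
      · rw [e3, e4, e5, e6, e7, h]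
      · rw [e4, e5, e6, e7, h]
      · rw [e5, e6, e7, h]
      · rw [e6, e7, h]
      · rw [← e8, e3, e4, e5, e6, e7, h]
    have hlen : zW.length = 63 := by decide +kernel
    rw [h, Z, List.map_congr_left hall, List.map_const', List.prod_replicate, hlen,
      show 63 = 2 * 31 + 1 from rfl, pow_succ, pow_mul, pow_two, U_sq, one_pow, one_mul]
  · exact h
  · exact absurd (congrArg χ h) (by rw [hχ 10 (by omega), map_mul, hχU, hχZ]; decide)

/-- In any group with the relations of Y532 and the spider relator, the end node is the E7 involution. -/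
theorem f1_words {M : Type} [Group M] (τ : ℕ → M) (hτ : ∀ x, τ x * τ x = 1)
    (h : ∀ w ∈ presY532.rels, (w.map τ).prod = 1) :
    τ 10 = (([3, 4, 8, 2, 5, 9, 6] : List ℕ).map τ).prod ^ 9 ∧
      τ 10 = (([3, 4, 2, 8, 5, 1, 6] : List ℕ).map τ).prod ^ 9 := by
  have key : ∀ v ∈ ([[3, 4, 8, 2, 5, 9, 6], [3, 4, 2, 8, 5, 1, 6]] : List (List ℕ)),
      τ 10 = (v.map τ).prod ^ 9 := by
    intro v hv
    have hv' : v ∈ ([[3, 4, 8, 2, 5, 9, 6], [3, 4, 2, 8, 5, 1, 6], [9, 8, 3, 4, 5, 6, 2]] : List (List ℕ)) := by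
      simp only [List.mem_cons, List.not_mem_nil, or_false] at hv ⊢
      rcases hv with rfl | rfl <;> simp
    have e := congrArg (homTo presY532 τ hτ h) (f1_eq_Z.trans (z_words v hv').symm)
    rw [homTo_gen _ _ _ _ hid11 (show 10 < presY532.k by decide), homTo_word _ _ _ _ hid11 _
      (fun x hx => (show ∀ v ∈ ([[3, 4, 8, 2, 5, 9, 6], [3, 4, 2, 8, 5, 1, 6], [9, 8, 3, 4, 5, 6, 2]] : List (List ℕ)),
        ∀ x ∈ (List.replicate 9 v).flatten, x < 11 by decide +kernel) v hv' x hx), prod_flatten_replicate] at e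
    exact e
  exact ⟨key _ (by simp), key _ (by simp)⟩

end CfsgLib.Y555
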